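import Cfsg.Agent.OM.Sp.C1.Tool
import Cfsg.Agent.BZ.C4.J2
import Cfsg.Agent.TAB.Sm2.M12
import Cfsg.Agent.TH.Spor.J3Tab
import Cfsg.Agent.OddHalf.Small.J3

/-!
# OM (S4894): the covers `2.M12`, `2.J2` at the prime `3` and `3.M22`, `3.J3` at the prime `2` (helper87)
-/

set_option autoImplicit false
set_option maxHeartbeats 400000
set_option maxRecDepth 100000

namespace Cfsg.Agent.OM.SpC1

open Cfsg Subgroup Cfsg.Agent.TAB Cfsg.Agent.TAB.Eng Cfsg.Agent.TAB.Use Cfsg.Agent.TAB.Sm2 Cfsg.Agent.OM.Lo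
open Cfsg.Agent.BZ.T (Reg)

/-- **`2.M12`, `p = 3`** -/
theorem m12_2_3 : ∀ (S : Type) [Group S] [Finite S], Spor.IsoM12 S → Cov 2 3 S := by
  rintro S _ _ ⟨e⟩
  have := Fact.mk Nat.prime_three
  have := Fact.mk Nat.prime_two
  obtain ⟨T, hm, hT, -⟩ := M12.tab
  refine Cov.of_equiv e fun X _ _ σ M Γ b D H hc hD => (no_blk H hc
    ((G.ce H).rt_of_reg BZ.C4.m12_reg ((by decide : 3 ^ 2 ∣ Thr 3).trans hD)) BZ.C4.m12_reg (k := 1) (by decide) hm hT
    (cf := [[(1, 11), (1, 12)], [(-1, 11), (1, 12), (1, 13)]]) (G := [[2, 0], [0, 4]]) (lv := [(1, 2, [1]), (2, 1, [1, 0])])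
    (e := [16, 160]) (e' := [1, 0]) (m := 1) (w := [(3, 11), (1, 12), (-1, 13)])
    (u := [(1, 0), (1, 1), (1, 2), (-1, 4), (1, 8), (-1, 9), (-1, 11), (1, 12), (1, 13)])
    (c := 4) (a := 11) (j := 11) (s := 4) (q := 5) (c' := 10) (by decide +kernel) (by decide +kernel) (by decide) (by decide)
    one_pos (L := 4) (by decide +kernel) (QL := [([1, 0], [1, 0]), ([0, -1], [0, 1])]) (QL' := [([0, 1], [1, 1])]) 16 1
    (by decide +kernel) (by decide +kernel)).elim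

/-- **`2.J2`, `p = 3`** -/
theorem j2_2_3 : ∀ (S : Type) [Group S] [Finite S], Spor.IsoJ2 S → Cov 2 3 S := by
  rintro S _ _ ⟨e⟩
  have := Fact.mk Nat.prime_three
  have := Fact.mk Nat.prime_two
  have := J2.finite
  obtain ⟨f⟩ := H379.J2Spec.iso
  have := Finite.of_equiv _ f.toEquiv
  obtain ⟨T, hm, -, -, -, -, hT⟩ := J2.tab
  have hR := Reg.of_equiv f.symm BZ.C4.j2_reg
  refine Cov.of_equiv (e.trans f) fun X _ _ σ M Γ b D H hc hD => (no_blk H hc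
    ((G.ce H).rt_of_reg hR ((by decide : 3 ^ 2 ∣ Thr 3).trans hD)) hR (k := 1) (by decide) hm hT
    (cf := [[(1, 8), (-1, 5)], [(1, 5), (1, 8), (1, 15)]]) (G := [[2, 0], [0, 4]]) (lv := [(1, 2, [1]), (2, 1, [1, 0])])
    (e := [224, 64]) (e' := [0, 1]) (m := 1) (w := [(3, 5), (-1, 8), (1, 15)])
    (u := [(1, 0), (1, 1), (-1, 3), (-1, 5), (1, 7), (1, 8), (-1, 9)])
    (c := 4) (a := 5) (j := 5) (s := 5) (q := 7) (c' := 7) (by decide +kernel) (by decide +kernel) (by decide) (by decide)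
    one_pos (L := 4) (by decide +kernel) (QL := [([1, 0], [1, 0]), ([0, -1], [0, 1])]) (QL' := [([0, 1], [-1, 1])]) 1 0
    (by decide +kernel) (by decide +kernel)).elim

/-- **`3.M22`, `p = 2`** -/
theorem m22_3_2 : ∀ (S : Type) [Group S] [Finite S], Spor.IsoM22 S → Cov 3 2 S := by
  rintro S _ _ ⟨e⟩
  have := Fact.mk Nat.prime_three
  have := Fact.mk Nat.prime_two
  obtain ⟨T, hm, hT, -⟩ := M22.tab
  refine Cov.of_equiv e fun X _ _ σ M Γ b D H hc hD => False.elim ?_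
  obtain ⟨ν, hν⟩ := exists_nu H ((G.ce H).rt_of_reg BZ.C2.m22_reg ((by decide : 2 ^ 3 ∣ Thr 2).trans hD))
  have key : ∀ (j : Fin 3) (n : ℕ), (∀ t < M22.dat.n, (M22.dat.ord t = 1 → BZ.Comp.rv (mkRows M22.rA M22.rB) (![1, 5, 6] j) t = n) ∧
      (M22.dat.ord t = 5 → BZ.Comp.rv (mkRows M22.rA M22.rB) (![1, 5, 6] j) t = 1)) → ¬ 2 ∣ n →
      ∃ χ ∈ b, charDegree (χ : X → ℂ) = n ∧ ∀ x, orderOf x = 5 → (χ : X → ℂ) x = (1 : ℤ) := fun j n h1 h2 => by
    obtain ⟨χ, h3, h4⟩ := BZ.Comp.two_tab (ext H hc) ν hT ![1, 5, 6] ![1, 5, 6] (by decide +kernel) (by decide +kernel)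
      (by decide +kernel) j
    have h5 : charDegree (χ : X → ℂ) = n := Blocks.Basic.charDegree_of_eq (by
      rw [h4 1 BZ.Comp.reg_one, (h1 _ (T.lt _)).1 (by rw [← T.ord, map_one, orderOf_one]), Int.cast_natCast])
    refine ⟨χ, hν χ h3 (BZ.T.top_of_not_dvd H.hM (h5 ▸ h2)), h5, fun x hx => ?_⟩
    rw [h4 x (by rw [hx]; decide), (h1 _ (T.lt _)).2 ((T.ord _).symm.trans ((bij (ext H hc) (q := 5) (by decide)).1 hx))]
  obtain ⟨χ, h1, h2, h3⟩ := key 0 21 (by decide +kernel) (by decide)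
  obtain ⟨ψ, h4, h5, h6⟩ := key 2 231 (by decide +kernel) (by decide)
  have h7 := no_val H (q := 5) (by norm_num) (by decide) (by rw [H.card_eq, hm.1, hc]; decide) h1 h4 h3 h6
  rw [h2, h5] at h7
  exact absurd h7 (by decide)

/-- **`3.J3`, `p = 2`** -/
theorem j3_3_2 : ∀ (S : Type) [Group S] [Finite S], Spor.IsoJ3 S → Cov 3 2 S := by
  have := Fact.mk Nat.prime_three
  have := Fact.mk Nat.prime_two
  intro S _ _ h X _ _ σ M Γ b D H hc _
  obtain ⟨T, hm, hr, -⟩ := TH.Spor.J3.exists_tab h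
  refine (no_con H hc (q := 5) (by norm_num) (by decide) (by decide) fun y hy =>
    ⟨BHZ.Spor.constr_of_locChar (OddHalf.Small.J3.j3 S h).2 hy, ?_⟩).elim
  have h1 := KM.Sp.le_cnt hm y
  have h2 := Nat.le_of_dvd (by rw [← T.ord, hy]; decide +kernel) (KM.Sp.rat_dvd hm hr y)
  have h3 : TH.Spor.J3.dat.cnt (T.ty y) = 26163 := (by decide +kernel : ∀ s < TH.Spor.J3.dat.n, 2 = TH.Spor.J3.dat.ord s →
    TH.Spor.J3.dat.cnt s = 26163) _ (T.lt _) (hy.symm.trans (T.ord _))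
  rw [← T.ord, hy, Nat.totient_two, one_mul] at h2
  rw [h3, show TH.Spor.J3.dat.N = 50232960 from rfl] at h1 h2
  omega

end Cfsg.Agent.OM.SpC1
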