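import Cfsg.Agent.OM.Lo.Loc
import Cfsg.Agent.BZ.C3.Blk

/-!
# OM (S4894), sporadic covers: two members with different central characters (helper87)

* `Ko X q` : the elements of order `q`; `exists_nu` : the characters over the central character of `b`;
* `prop` : the sums over `Ko X q` are proportional to the degrees;  `blk` : the search inside one block of the quotient;
* `no_blk`, `no_val`, `no_con` : the three ends of a row.
-/

set_option autoImplicit false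
set_option maxHeartbeats 400000
set_option linter.unusedSectionVars false

namespace Cfsg.Agent.OM.SpC1

open Cfsg Subgroup Cfsg.Agent.Characters.Core Cfsg.Agent.OddOrderCharacters.VChar Cfsg.Agent.KM.Sp
open Cfsg.Agent.TAB.Eng Cfsg.Agent.TAB.Use Cfsg.Agent.BZ.C5 Cfsg.Agent.BZ.C3 Cfsg.Agent.BZ.Comp Cfsg.Agent.Blocks.Basic
open Cfsg.Agent.H613.RegGram Cfsg.Agent.Blocks.Blau Cfsg.Agent.H447.CTab Cfsg.Agent.OM.Lo Cfsg.Agent.OM.Alt
open Cfsg.Agent.BZ.T (Reg Top)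
open Cfsg.Agent.BHZ.Spor (RegTriv Constr)
open scoped ComplexConjugate

/-- the elements of order `q` -/
def Ko (X : Type) [Group X] (q : ℕ) : Set X := {x | orderOf x = q}

variable {r : ℕ} [hr : Fact r.Prime] {X S : Type} [Group X] [Group S] [Finite X] {σ : X →* S}

/-- the lift of an element of order prime to `r` -/
theorem exists_lift (h : BZ.Comp.Ext r σ) {y : S} (hy : ¬ r ∣ orderOf y) : ∃ x : X, σ x = y ∧ orderOf x = orderOf y := by
  obtain ⟨k, rfl⟩ := h.surj y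
  obtain ⟨z, s, h1, rfl⟩ := dec hy
  rw [map_mul_ker]
  refine ⟨s, rfl, Nat.dvd_antisymm (orderOf_dvd_of_pow_eq_one ?_) (orderOf_map_dvd σ s)⟩
  obtain ⟨k, hk⟩ := h.ord ⟨s ^ orderOf (σ s), by rw [MonoidHom.mem_ker, map_pow, pow_orderOf_eq_one]⟩
  refine orderOf_eq_one_iff.1 (Nat.eq_one_of_dvd_coprimes ((hr.out.coprime_iff_not_dvd.2 h1).pow_left k) hk.dvd ?_)
  exact orderOf_pow_dvd _

theorem bij (h : BZ.Comp.Ext r σ) {q : ℕ} (hq : ¬ r ∣ q) : Set.BijOn σ (Ko X q) (Ko S q) := by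
  have key : ∀ x ∈ Ko X q, ∀ y ∈ Ko X q, σ x = σ y → x = y := fun x hx y hy e => by
    have h1 : x * y⁻¹ ∈ σ.ker := by rw [MonoidHom.mem_ker, map_mul, map_inv, e, mul_inv_cancel]
    obtain ⟨k, hk⟩ := h.ord ⟨_, h1⟩
    have h2 : Commute (x * y⁻¹) y := (h.com ⟨_, h1⟩ y).symm
    have h3 : x ^ q = (x * y⁻¹) ^ q * y ^ q := by rw [← h2.mul_pow, inv_mul_cancel_right]
    rw [← (show orderOf x = q from hx), pow_orderOf_eq_one, (show orderOf x = orderOf y from hx.trans hy.symm),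
      pow_orderOf_eq_one, mul_one, (show orderOf y = q from hy)] at h3
    exact mul_inv_eq_one.1 (orderOf_eq_one_iff.1 (Nat.eq_one_of_dvd_coprimes
      ((hr.out.coprime_iff_not_dvd.2 hq).pow_left k) hk.dvd (orderOf_dvd_of_pow_eq_one h3.symm)))
  refine ⟨fun x hx => ?_, fun x hx y hy e => key x hx y hy e, fun y hy => ?_⟩
  · have h1 : orderOf (σ x) ∣ q := (show orderOf x = q from hx) ▸ orderOf_map_dvd σ x
    obtain ⟨s, h2, h3⟩ := exists_lift h (y := σ x) fun e => hq (e.trans h1)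
    have h4 : x * s⁻¹ ∈ σ.ker := by rw [MonoidHom.mem_ker, map_mul, map_inv, h2, mul_inv_cancel]
    obtain ⟨k, hk⟩ := h.ord ⟨_, h4⟩
    have h5 : Commute (x * s⁻¹) s := (h.com ⟨_, h4⟩ s).symm
    have h6 := h5.orderOf_mul_eq_mul_orderOf_of_coprime (by
      rw [show orderOf (x * s⁻¹) = r ^ k from hk, h3]
      exact (hr.out.coprime_iff_not_dvd.2 fun e => hq (e.trans h1)).pow_left k)
    rw [inv_mul_cancel_right, show orderOf (x * s⁻¹) = r ^ k from hk, show orderOf x = q from hx, h3] at h6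
    rcases k with _ | k
    · exact (h6.trans (by rw [pow_zero, one_mul])).symm
    · exact absurd (h6 ▸ (dvd_pow_self r k.succ_ne_zero).mul_right _) hq
  · obtain ⟨x, h1, h2⟩ := exists_lift h (y := y) (by rwa [show orderOf y = q from hy])
    exact ⟨x, h2.trans hy, h1⟩

theorem ks_down (h : BZ.Comp.Ext r σ) {q : ℕ} (hq : ¬ r ∣ q) {χ : X → ℂ} {γ : S → ℂ} (h1 : ∀ s, ¬ r ∣ orderOf s → χ s = γ (σ s)) :
    ks (Ko X q) χ = ks (Ko S q) γ :=
  finsum_mem_eq_of_bijOn σ (bij h hq) fun x hx => h1 x (by rwa [show orderOf x = q from hx])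

variable {D : Dat} {T : TD S D} {R : Rows}

theorem inner_ind [Fintype S] (hm : T.Mass) {f : ℕ → ℤ} {q : ℕ} {c : ℤ} (h : ∀ t < D.n, f t = if D.ord t = q then c else 0)
    (γ : S → ℂ) : classInner (fun g => (f (T.ty g) : ℂ)) γ = (D.N : ℂ)⁻¹ * c * conj (ks (Ko S q) γ) := by
  classical
  rw [classInner, ks_eq, map_sum, hm.1, mul_assoc, Finset.mul_sum _ _ (c : ℂ)]
  refine congrArg _ (Finset.sum_congr rfl fun g _ => ?_)
  rw [h _ (T.lt g), ← T.ord]
  by_cases e : orderOf g = q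
  · rw [if_pos e, if_pos (show g ∈ Ko S q from e)]
  · rw [if_neg e, if_neg (show g ∉ Ko S q from e), Int.cast_zero, zero_mul, map_zero, mul_zero]

/-- the data of the sum over the elements of order `q` -/
abbrev okU (D : Dat) (R : Rows) (q : ℕ) (cf : List (List (ℤ × ℕ))) (n : ℕ) (e' : List ℤ) (w u : List (ℤ × ℕ)) (c' : ℤ) :
    Prop :=
  (∀ x ∈ u, ∀ z ∈ (rl R x.2).1, z.1 < R.n) ∧ (∀ t < D.n, psi R u t = if D.ord t = q then c' else 0) ∧
    ∀ i < R.n, mlt R w i ≠ 0 → dt e' (rev (fun k => mlt R (cf.getD k []) i) n) = mlt R u i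

/-- **a character over a block of the quotient whose coordinates have the property `P`** -/
theorem blk (h : BZ.Comp.Ext r σ) (ν : σ.ker →* ℂˣ) (hm : T.Mass) (hT : Tab T R) {cf : List (List (ℤ × ℕ))}
    {G : List (List ℤ)} {lv : List Lv} {e e' : List ℤ} {m : ℕ} {w u : List (ℤ × ℕ)} {c a j s q : ℕ} {c' : ℤ}
    (h0 : okB D R r cf G lv.length e m w c a j s) (hU : okU D R q cf lv.length e' w u c') (hq : ¬ r ∣ q) {L : ℕ}
    (h1 : okL G L lv = true) {QL : List (List ℤ × List ℤ)} {P : List ℤ → Bool} (h2 : okQ G L lv QL P = true) :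
    ∃ (χ : IrrCharacter X) (xs : List ℤ), BZ.Comp.Ov σ ν χ ∧ P xs = true ∧ dt e xs = (m * charDegree (χ : X → ℂ) : ℕ) ∧
      (dt e' xs : ℂ) = (D.N : ℂ)⁻¹ * c' * conj (ks (Ko X q) χ) := by
  classical
  have := Fintype.ofFinite X
  have := Finite.of_surjective σ h.surj
  have := Fintype.ofFinite S
  have := finite_irr (G := X)
  have := Fintype.ofFinite (IrrCharacter X)
  obtain ⟨a1, a2, a3, ⟨a4, a5, a6, a7, a8⟩, a9⟩ := h0
  have hv : ∀ i, cf.getD i [] = [] ∨ cf.getD i [] ∈ cf := fun i => by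
    by_cases hi : i < cf.length
    · rw [List.getD_eq_getElem _ _ hi]
      exact .inr (List.getElem_mem _)
    · exact .inl (List.getD_eq_default _ _ (not_lt.1 hi))
  have hl : ∀ i, ∀ x ∈ cf.getD i [], ∀ z ∈ (rl R x.2).1, z.1 < R.n := fun i x hx =>
    (hv i).elim (fun e => absurd (e ▸ hx) List.not_mem_nil) fun e => a1 _ (List.mem_cons_of_mem _ e) x hx
  choose Φ h3 h4 using fun i => exists_up h ν (virt_psi hT (hl i)) fun g hg => by
    rcases hv i with h5 | h5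
    · rw [h5]
      exact Int.cast_zero
    · rw [a2 _ h5 _ (T.lt g) (T.ord g ▸ hg), Int.cast_zero]
  obtain ⟨χ, h5, h6⟩ := comb_core (fun i χ => mu (h3 i) χ) (fun i hi k hk => by
    exact_mod_cast (inner_sum_mu (h3 i) (h3 k)).symm.trans (((h4 i).inner h (h4 k)).trans
      (inner_of_ipF hm (a3 i hi k hk)))) h1 h2
  have ho : BZ.Comp.Ov σ ν χ := by
    obtain ⟨i, hi⟩ := not_forall.1 h5
    exact (h4 i).ov h χ.2 (by rw [inner_mu (h3 i)]; exact_mod_cast hi)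
  obtain ⟨φ, hE, hR⟩ := hT
  have b1 : ∀ i < R.n, (c : ℂ) * rg r (φ j) (φ i) = mlt R w i := fun i hi => by
    rw [← inner_psi hE hR (a1 w List.mem_cons_self) hi, rg_eq_classInner, ← classInner_smul_left]
    congr 1
    funext g
    have b2 := rel_rl hR a g
    rw [a4, List.map_singleton, List.sum_singleton, Int.cast_one, one_mul] at b2
    rw [a8 _ (T.lt g), ← T.ord, Pi.smul_apply]
    split_ifs with hg
    · rw [regPart_of_dvd hg, smul_zero, Int.cast_zero]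
    · rw [regPart_of_not_dvd hg, b2, Int.cast_mul, Int.cast_natCast, smul_eq_mul]
  have b2 : ∀ i < R.n, charDegree (φ i) = R.d i := fun i hi => charDegree_of_eq (hE.deg i hi)
  have b3 : ∀ i < R.n, rg r (φ j) (φ i) ≠ 0 → mlt R w i ≠ 0 := fun i hi h7 h8 =>
    mul_ne_zero (Nat.cast_ne_zero.2 a6) h7 ((b1 i hi).trans (by rw [h8, Int.cast_zero]))
  obtain ⟨ι, _, θ, μ, c1, c2, c3⟩ := split h (hE.irr j a5) (fun θ hθ h7 => by
    obtain ⟨i, hi, rfl⟩ := hE.all θ hθ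
    have h8 := (hr.out.pow_dvd_iff_le_factorization (charDegree_pos hθ).ne').1
      (b2 i hi ▸ ((a9 i hi).resolve_left fun h8 => b3 i hi h7 h8.1).2.1)
    have h9 := (hr.out.pow_dvd_iff_le_factorization (charDegree_pos (hE.irr j a5)).ne').not.1 (b2 j a5 ▸ a7)
    omega) χ
  choose ix c4 c5 using fun i => hE.all _ (c1 i)
  have c0 : ∀ v : List (ℤ × ℕ), (∀ x ∈ v, ∀ z ∈ (rl R x.2).1, z.1 < R.n) →
      classInner (fun g => (psi R v (T.ty g) : ℂ)) (∑ i, (μ i : ℂ) • θ i) = (∑ i, mlt R v (ix i) * μ i : ℤ) := fun v hv => by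
    rw [classInner_sum_right, Int.cast_sum]
    exact Finset.sum_congr rfl fun i _ => by
      rw [classInner_smul_right, c5, inner_psi hE hR hv (c4 i), map_intCast, Int.cast_mul, mul_comm]
  have c6 : ∀ k, ∑ i, mlt R (cf.getD k []) (ix i) * μ i = 1 * mu (h3 k) χ := fun k => Int.cast_injective (α := ℂ) (by
    rw [one_mul, ← inner_mu, (h4 k).inner_irr h χ.2 ho c2, c0 _ (hl k)])
  have c8 : ∀ i, rg r (φ j) (θ i) ≠ 0 := c3.resolve_left fun c3 => by
    refine absurd (fun k => ?_) h5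
    rw [← one_mul (mu _ _), ← c6]
    refine Finset.sum_eq_zero fun i _ => mul_eq_zero_of_left ?_ _
    have c7 := (a9 _ (c4 i)).resolve_right fun c7 => c7.1 (Int.cast_injective (α := ℂ) (by
      rw [← b1 _ (c4 i), ← c5, c3, mul_zero, Int.cast_zero]))
    exact (hv k).elim (fun e => by rw [e]; rfl) (c7.2 _)
  have c7 : ∀ e : List ℤ, ∑ i, dt e (rev (fun k => mlt R (cf.getD k []) (ix i)) lv.length) * μ i =
      dt e (rev (fun k => mu (h3 k) χ) lv.length) := fun e => by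
    have c7 := dt_sum (R := ℤ) (fun k i => mlt R (cf.getD k []) (ix i)) μ (fun k => mu (h3 k) χ) 1 lv.length
      (fun k _ => c6 k) e
    rwa [one_mul] at c7
  refine ⟨χ, _, ho, h6, ?_, ?_⟩
  · have c9 := c2 1 BZ.Comp.reg_one
    rw [map_one, Finset.sum_apply, irr_one_eq_charDegree χ.2] at c9
    refine Int.cast_injective (α := ℂ) ?_
    rw [← c7, Int.cast_natCast, Nat.cast_mul, c9, Int.cast_sum, Finset.mul_sum]
    refine Finset.sum_congr rfl fun i _ => ?_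
    rw [((a9 _ (c4 i)).resolve_left fun c9 => b3 _ (c4 i) (c5 i ▸ c8 i) c9.1).2.2, Pi.smul_apply, c5, hE.deg _ (c4 i),
      smul_eq_mul]
    push_cast
    ring
  · rw [ks_down h hq c2, ← inner_ind hm hU.2.1, c0 u hU.1, ← c7]
    exact congrArg _ (Finset.sum_congr rfl fun i _ => by rw [hU.2.2 _ (c4 i) (b3 _ (c4 i) (c5 i ▸ c8 i))])

variable {p : ℕ} [hp : Fact p.Prime] {M : Ideal AlgInt} {Γ : Subgroup (MulAut X)} {b : Set (IrrCharacter X)}
  {E : Subgroup X}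

omit hr in
theorem ext (H : Hyp p M Γ b E σ) (hc : Nat.card (center X) = r) : BZ.Comp.Ext r σ :=
  ⟨H.surj, H.ker.le, IsPGroup.of_card (n := 1) (by rw [H.ker, hc, pow_one])⟩

/-- `b` is the block of maximal defect over its central character -/
theorem exists_nu (H : Hyp p M Γ b E σ) (h : RegTriv p (E.map σ)) :
    ∃ ν : σ.ker →* ℂˣ, ∀ χ : IrrCharacter X, BZ.Comp.Ov σ ν χ → Top p M (χ : X → ℂ) → χ ∈ b := by
  have := Blocks.Local.isPrime_of_isPModular H.hM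
  obtain ⟨c, h1, -⟩ := G.ctx H
  obtain ⟨θ, h2, h3⟩ := (G.ce H).max_of_rt H.hM H.hb H.hD h
  refine ⟨c.comp (inclusion H.ker.le), fun χ ho hT => isPBlock_mem_of_sameBlock H.hb h2
    ((G.ce H).same H.hM ⟨_, H.pg.map σ, h⟩ (BZ.T.top_of_not_dvd H.hM h3) hT fun z hz => ?_)⟩
  rw [ho ⟨z, hz⟩, h1 θ h2 ⟨z, H.ker.le hz⟩, mul_div_cancel_left₀ _ (irr_one_ne_zero θ.2),
    mul_div_cancel_right₀ _ (irr_one_ne_zero χ.2)]
  rfl

theorem prop (H : Hyp p M Γ b E σ) {q : ℕ} (hq : ¬ p ∣ q) {χ ψ : IrrCharacter X} (hχ : χ ∈ b) (hψ : ψ ∈ b) :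
    ks (Ko X q) χ * charDegree (ψ : X → ℂ) = ks (Ko X q) ψ * charDegree (χ : X → ℂ) := by
  rw [← irr_one_eq_charDegree χ.2, ← irr_one_eq_charDegree ψ.2]
  exact oneA_of_one H.one _ (fun α x hx => (α.orderOf_eq x).trans hx)
    (fun x hx => by rwa [IsPRegular, show orderOf x = q from hx]) χ hχ ψ hψ

theorem top_of (H : Hyp p M Γ b E σ) {d k : ℕ} (hR : Reg p d S) (h1 : p ^ (k + d) ∣ Nat.card S) (χ : IrrCharacter X)
    (h2 : ¬ p ^ (k + 1) ∣ charDegree (χ : X → ℂ)) : Top p M (χ : X → ℂ) := by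
  have := Finite.of_surjective σ H.surj
  refine (G.ce H).top_of_crit H.hM hR χ ?_
  have h5 := (hp.out.pow_dvd_iff_le_factorization Nat.card_pos.ne').1 h1
  have h6 := mt (hp.out.pow_dvd_iff_le_factorization (charDegree_pos χ.2).ne').2 h2
  omega

/-- **two searches inside one block of the quotient** -/
theorem no_blk (H : Hyp p M Γ b E σ) (hc : Nat.card (center X) = r) (h : RegTriv p (E.map σ)) {d k : ℕ} (hR : Reg p d S)
    (hk : p ^ (k + d) ∣ D.N) (hm : T.Mass) (hT : Tab T R) {cf : List (List (ℤ × ℕ))}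
    {G : List (List ℤ)} {lv : List Lv} {e e' : List ℤ} {m : ℕ} {w u : List (ℤ × ℕ)} {c a j s q : ℕ} {c' : ℤ}
    (h0 : okB D R r cf G lv.length e m w c a j s) (hU : okU D R q cf lv.length e' w u c') (hq : ¬ r ∣ q) (hq' : ¬ p ∣ q)
    (hm0 : 0 < m) {L : ℕ} (h1 : okL G L lv = true) {QL QL' : List (List ℤ × List ℤ)} (A B : ℤ)
    (h2 : okQ G L lv QL (fun xs => decide (dt e xs ≤ 0 ∨
      dt e xs % (p ^ (k + 1) : ℕ) ≠ 0 ∧ A * dt e' xs = B * dt e xs)) = true)
    (h3 : okQ G L lv QL' (fun xs => decide (dt e xs ≤ 0 ∨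
      dt e xs % (p ^ (k + 1) : ℕ) ≠ 0 ∧ A * dt e' xs ≠ B * dt e xs)) = true) : False := by
  obtain ⟨ν, hν⟩ := exists_nu H h
  obtain ⟨χ, x, a1, a2, a3, a4⟩ := blk (ext H hc) ν hm hT h0 hU hq h1 h2
  obtain ⟨ψ, y, b1, b2, b3, b4⟩ := blk (ext H hc) ν hm hT h0 hU hq h1 h3
  have key : ∀ (χ : IrrCharacter X) (n : ℤ), BZ.Comp.Ov σ ν χ → n = (m * charDegree (χ : X → ℂ) : ℕ) →
      0 < n ∧ (n % (p ^ (k + 1) : ℕ) ≠ 0 → χ ∈ b) := fun χ n h4 h5 =>
    ⟨h5 ▸ Int.natCast_pos.2 (Nat.mul_pos hm0 (charDegree_pos χ.2)), fun h6 => hν χ h4 (top_of H hR (hm.1 ▸ hk) χ fun h7 =>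
      h6 (Int.emod_eq_zero_of_dvd (h5 ▸ Int.natCast_dvd_natCast.2 (h7.mul_left m))))⟩
  obtain ⟨a5, a6⟩ := key χ _ a1 a3
  obtain ⟨b5, b6⟩ := key ψ _ b1 b3
  obtain ⟨a7, a8⟩ := (of_decide_eq_true a2).resolve_left a5.not_ge
  obtain ⟨b7, b8⟩ := (of_decide_eq_true b2).resolve_left b5.not_ge
  have h4 := congrArg conj (prop H hq' (a6 a7) (b6 b7))
  rw [map_mul, map_mul, map_natCast, map_natCast] at h4
  have h5 : dt e' x * dt e y = dt e' y * dt e x := Int.cast_injective (α := ℂ) (by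
    rw [Int.cast_mul, Int.cast_mul, a3, a4, b3, b4]
    push_cast
    linear_combination (D.N : ℂ)⁻¹ * c' * m * h4)
  exact b8 (mul_left_cancel₀ a5.ne' (by linear_combination dt e y * a8 - A * h5))

/-- **two members with constant values at the elements of order `q`** -/
theorem no_val (H : Hyp p M Γ b E σ) {q : ℕ} (hq : q.Prime) (hq' : ¬ p ∣ q) (hX : q ∣ Nat.card X) {χ ψ : IrrCharacter X}
    (hχ : χ ∈ b) (hψ : ψ ∈ b) {v w : ℤ} (h1 : ∀ x, orderOf x = q → (χ : X → ℂ) x = v)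
    (h2 : ∀ x, orderOf x = q → (ψ : X → ℂ) x = w) : v * charDegree (ψ : X → ℂ) = w * charDegree (χ : X → ℂ) := by
  have := Fact.mk hq
  have h3 := prop H hq' hχ hψ
  rw [ks_const (K := Ko X q) h1, ks_const (K := Ko X q) h2, mul_assoc, mul_assoc] at h3
  obtain ⟨x, hx⟩ := exists_prime_orderOf_dvd_card' q hX
  exact_mod_cast mul_left_cancel₀ (Nat.cast_ne_zero.2 (Set.ncard_ne_zero_of_mem (s := Ko X q) hx)) h3

/-- **a constrained element of order `p`** -/
theorem no_con (H : Hyp p M Γ b E σ) (hc : Nat.card (center X) = r) {q : ℕ} (hq : q.Prime) (hqp : q ≠ p) (hqr : q ≠ r)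
    (h : ∀ y : S, orderOf y = p → Constr p y ∧ q ∣ Nat.card (centralizer ({y} : Set S))) : False := by
  have := Fact.mk hq
  have := Finite.of_surjective σ H.surj
  obtain ⟨k, hk⟩ := H.exists_card
  obtain ⟨u, hu⟩ := exists_prime_orderOf_dvd_card' (G := E) p (hk ▸ dvd_pow_self p (by omega))
  rw [← orderOf_coe] at hu
  have h1 : (u : X) ^ p = 1 := by rw [← hu, pow_orderOf_eq_one]
  have h2 : orderOf (σ u) = p := orderOf_eq_prime (by rw [← map_pow, h1, map_one]) fun e => (G.ce H).reg e hu.symm.dvd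
  obtain ⟨h3, h4⟩ := h _ h2
  obtain ⟨y, hy⟩ := exists_prime_orderOf_dvd_card' q h4
  rw [← orderOf_coe] at hy
  have h5 : ¬ r ∣ q := fun e => hqr ((Nat.prime_dvd_prime_iff_eq hr.out hq).1 e).symm
  have h6 : ¬ p ∣ q := fun e => hqp ((Nat.prime_dvd_prime_iff_eq hp.out hq).1 e).symm
  obtain ⟨x, h7, h8⟩ := exists_lift (ext H hc) (y := y) (hy ▸ h5)
  rw [hy] at h8
  refine boxCon p M X Γ b E S σ H u u.2 (fun e => hp.out.one_lt.ne (by rw [← hu, e, orderOf_one])) h3 x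
    (BHZ.Spor.commute_p_reg (p := p) H.ker.le (h7 ▸ (mem_centralizer_singleton_iff.1 y.2).symm) (k := 1)
      (by rw [pow_one, h1]) (h8 ▸ h6)) (by rw [IsPRegular, h8]; exact h6) (fun e => h5 ?_)
    (gd_of_coprime Γ (by rw [h8, hc]; exact (hr.out.coprime_iff_not_dvd.2 h5).symm))
  have h9 := orderOf_dvd_natCard (center X) e
  rw [h8, hc] at h9
  exact absurd ((Nat.prime_dvd_prime_iff_eq hq hr.out).1 h9) hqr

end Cfsg.Agent.OM.SpC1
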